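import Mathlib

/-!
# A `q`-group acting on an abelian group with all orbits of size at most `q`

* `stab_normal`, `commutator_le_stab`: stabilisers of index `q` are normal and contain the commutator
* `card_le_of_no_fixed`: if moreover only `1` is fixed and the action is faithful, then `|P| ≤ q`
-/

set_option autoImplicit false

namespace Cfsg.Agent.SquarefreeDeg

variable {P D : Type*} [Group P] [CommGroup D] [MulDistribMulAction P D] [Finite P]
  {q : ℕ} [hq : Fact q.Prime]

theorem normal_of_index_le (hP : IsPGroup q P) {T : Subgroup P} (h : T.index = 1 ∨ T.index = q) :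
    T.Normal := by
  rcases h with h | h
  · rw [Subgroup.index_eq_one.mp h]; infer_instance
  · refine Subgroup.normal_of_index_eq_minFac_card ?_
    obtain ⟨n, hn⟩ := hP.exists_card_eq
    have hn0 : n ≠ 0 := by
      rintro rfl
      have := T.index_dvd_card
      rw [h, hn, pow_zero] at this
      exact hq.out.not_dvd_one this
    rw [h, hn, Nat.pow_minFac hn0, hq.out.minFac_eq]

theorem commutator_le_of_index_le (hP : IsPGroup q P) {T : Subgroup P}
    (h : T.index = 1 ∨ T.index = q) : commutator P ≤ T := by
  haveI := normal_of_index_le hP h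
  rcases h with h | h
  · rw [Subgroup.index_eq_one.mp h]; exact le_top
  · haveI : IsCyclic (P ⧸ T) := isCyclic_of_prime_card (p := q) (by rw [← Subgroup.index_eq_card]; exact h)
    haveI : IsMulCommutative (P ⧸ T) := IsCyclic.isMulCommutative
    refine Subgroup.commutator_le.2 fun a _ b _ => ?_
    rw [← QuotientGroup.eq_one_iff, ← QuotientGroup.mk'_apply, map_commutatorElement,
      commutatorElement_eq_one_iff_mul_comm]
    exact mul_comm' _ _

theorem card_le_of_no_fixed (hP : IsPGroup q P)
    (horb : ∀ d : D, (MulAction.stabilizer P d).index = 1 ∨ (MulAction.stabilizer P d).index = q)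
    (hfix : ∀ d : D, (∀ x : P, x • d = d) → d = 1)
    (hfaith : ∀ x : P, (∀ d : D, x • d = d) → x = 1) : Nat.card P ≤ q := by
  by_cases hD : ∀ d : D, d = 1
  · have : Subsingleton P := ⟨fun a b => by
      rw [hfaith a fun d => by rw [hD d, smul_one], hfaith b fun d => by rw [hD d, smul_one]]⟩
    rw [Nat.card_unique]
    exact hq.out.one_lt.le
  push Not at hD
  obtain ⟨d₁, hd₁⟩ := hD
  set S : D → Subgroup P := fun d => MulAction.stabilizer P d with hS
  have hidx : ∀ d : D, d ≠ 1 → (S d).index = q := by
    intro d hd
    refine (horb d).resolve_left fun h => hd (hfix d fun x => ?_)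
    have : x ∈ S d := by
      show x ∈ MulAction.stabilizer P d
      rw [Subgroup.index_eq_one.mp h]; trivial
    exact this
  have hle : ∀ d e : D, d ≠ 1 → e ≠ 1 → S d ≤ S e → S d = S e := by
    intro d e hd he h
    by_contra hne
    exact (Subgroup.index_strictAnti (lt_of_le_of_ne h hne)).ne' (by rw [hidx d hd, hidx e he])
  have key : ∀ d e : D, d ≠ 1 → e ≠ 1 → S d = S e := by
    intro d e hd he
    by_contra hne
    have hde : d * e ≠ 1 := by
      intro h
      apply hne
      rw [eq_inv_of_mul_eq_one_right h]
      ext x
      show x • d = d ↔ x • d⁻¹ = d⁻¹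
      rw [smul_inv', inv_inj]
    haveI hnd : (S d).Normal := normal_of_index_le hP (Or.inr (hidx d hd))
    haveI hne' : (S e).Normal := normal_of_index_le hP (Or.inr (hidx e he))
    -- the join of the two stabilisers is everything
    have hjoin : S d ⊔ S e = ⊤ := by
      by_contra hj
      have h1 : S d = S d ⊔ S e := by
        by_contra hne1
        have hlt := Subgroup.index_strictAnti (lt_of_le_of_ne le_sup_left hne1)
        have hdvd := Subgroup.index_dvd_of_le (le_sup_left : S d ≤ S d ⊔ S e)
        rw [hidx d hd] at hdvd hlt
        rcases (Nat.dvd_prime hq.out).mp hdvd with h1 | h1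
        · exact hj (Subgroup.index_eq_one.mp h1)
        · omega
      exact hne (hle e d he hd (h1 ▸ le_sup_right)).symm
    have hinv : ∀ f : D, ∀ x : P, (S f).Normal → S f ≤ S (x • f / f) := by
      intro f x hn y hy
      show y • (x • f / f) = x • f / f
      have hy' : y • f = f := hy
      have h1 : (x⁻¹ * y * x) • f = f := by
        have := hn.conj_mem y hy x⁻¹
        rw [inv_inv] at this
        exact this
      rw [smul_div', hy']
      congr 1
      calc y • x • f = x • ((x⁻¹ * y * x) • f) := by simp [smul_smul, mul_assoc]
        _ = x • f := by rw [h1]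
    have hsub : ∀ x ∈ S (d * e), x ∈ S d ∧ x ∈ S e := by
      intro x hx
      have hx' : x • d * x • e = d * e := by rw [← smul_mul']; exact hx
      have hw : x • d / d = (x • e / e)⁻¹ := by
        rw [inv_div, div_eq_div_iff_mul_eq_mul]
        rw [hx', mul_comm]
      have h1 : x • d / d = 1 := by
        refine hfix _ fun y => ?_
        have hyt : y ∈ S d ⊔ S e := by rw [hjoin]; trivial
        have hinc : S d ⊔ S e ≤ S (x • d / d) := by
          refine sup_le (hinv d x hnd) ?_
          intro z hz
          show z • (x • d / d) = x • d / d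
          rw [hw, smul_inv']
          exact congrArg _ (hinv e x hne' hz)
        exact hinc hyt
      have h2 : x • e / e = 1 := by
        rw [← inv_eq_one, ← hw, h1]
      exact ⟨div_eq_one.mp h1, div_eq_one.mp h2⟩
    have e1 := hle (d * e) d hde hd fun x hx => (hsub x hx).1
    have e2 := hle (d * e) e hde he fun x hx => (hsub x hx).2
    exact hne (e1.symm.trans e2)
  have hbot : S d₁ = ⊥ := by
    rw [eq_bot_iff]
    intro x hx
    rw [Subgroup.mem_bot]
    refine hfaith x fun d => ?_
    by_cases hd : d = 1
    · rw [hd, smul_one]
    · rw [key d₁ d hd₁ hd] at hx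
      exact hx
  have := hidx d₁ hd₁
  rw [hbot, Subgroup.index_bot] at this
  exact this.le

end Cfsg.Agent.SquarefreeDeg
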