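import Cfsg.Agent.Lib.SquarefreeDeg.Action
import Cfsg.Agent.Lib.PDegree.DerivedBound
import Cfsg.Agent.Lib.CharApp.DegreeOneP
import Cfsg.Agent.Lib.PGroup.NormalAbelian
import Cfsg.Agent.Lib.Solvable.Fitting
import Cfsg.Agent.Lib.Cores.Fitting

/-!
# Solvable groups whose irreducible character degrees are squarefree

* `SF.normal`, `SF.quotient`: inheritance
* `derived_two_of_pGroup`, `derived_two_of_nilpotent`: nilpotent `SF`-groups are metabelian
* `nilpotent_derived_two`: in a solvable `SF`-group the second derived subgroup is nilpotent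
* `derived_four`: the derived length is at most `4`
-/

set_option autoImplicit false

namespace Cfsg.Agent.SquarefreeDeg

open Cfsg Cfsg.Agent
open scoped commutatorElement

universe u

/-- All irreducible character degrees are squarefree. -/
def SF (G : Type u) [Group G] : Prop := ∀ χ : IrrCharacter G, Squarefree (charDegree (χ : G → ℂ))

theorem SF.quotient {G : Type u} [Group G] (h : SF G) (N : Subgroup G) [N.Normal] : SF (G ⧸ N) := by
  intro χ
  have h1 := h ⟨fun g => (χ : G ⧸ N → ℂ) (QuotientGroup.mk' N g),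
    Char.IsIrrCharacter.comp_surjective χ.2 _ (QuotientGroup.mk'_surjective N)⟩
  rwa [PDegree.charDegree_eq_of_apply_one (ψ := (χ : G ⧸ N → ℂ)) (by simp)] at h1

theorem SF.normal {G : Type u} [Group G] [Finite G] (h : SF G) (N : Subgroup G) [N.Normal] :
    SF N := by
  haveI := Fintype.ofFinite N
  intro θ
  obtain ⟨χ, hχ⟩ := PDegree.exists_over N θ
  exact (h χ).squarefree_of_dvd
    ((dvd_mul_right _ _).trans (PDegree.degree_dvd_of_constituent N χ θ hχ))

/-- The action on the linear characters of a normal subgroup. -/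
@[reducible] def dualAction {G : Type u} [Group G] (A : Subgroup G) [A.Normal] :
    MulDistribMulAction G (A →* ℂˣ) where
  smul g v := v.comp (MulAut.conjNormal g⁻¹ : MulAut A).toMonoidHom
  one_smul v := by
    refine MonoidHom.ext fun a => ?_
    show v ((MulAut.conjNormal (1 : G)⁻¹ : MulAut A) a) = v a
    simp
  mul_smul g h v := by
    refine MonoidHom.ext fun a => ?_
    show v ((MulAut.conjNormal (g * h)⁻¹ : MulAut A) a) =
      v ((MulAut.conjNormal h⁻¹ : MulAut A) ((MulAut.conjNormal g⁻¹ : MulAut A) a))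
    rw [mul_inv_rev, map_mul]
    rfl
  smul_one g := rfl
  smul_mul g v w := rfl

theorem dual_sep {A : Type*} [Group A] [Finite A] (hab : ∀ a b : A, a * b = b * a) {x y : A}
    (h : ∀ v : A →* ℂˣ, v x = v y) : x = y := by
  by_contra hne
  obtain ⟨v, hv⟩ := CharApp.TwoDegrees.exists_linear_sep hab (y := x * y⁻¹) (mul_inv_eq_one.not.2 hne)
  apply hv
  have := congrArg Units.val (h v.toHomUnits)
  simp only [MonoidHom.coe_toHomUnits] at this
  rw [map_mul, this, ← map_mul, mul_inv_cancel, map_one]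

section dual
variable {G : Type u} [Group G] [Finite G] (A : Subgroup G) [A.Normal]

theorem squarefree_index (h : SF G) (v : A →* ℂˣ) :
    letI := dualAction A
    Squarefree (MulAction.stabilizer G v).index := by
  letI := dualAction A
  haveI := Fintype.ofFinite A
  let θ : IrrCharacter A := ⟨fun a => (v a : ℂ), CharApp.DegreeOneP.linear_isIrr A ((Units.coeHom ℂ).comp v)⟩
  obtain ⟨χ, hχ⟩ := PDegree.exists_over A θ
  have hd := (dvd_mul_left _ _).trans (PDegree.degree_dvd_of_constituent A χ θ hχ)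
  have hst : PDegree.stab A (θ : A → ℂ) = MulAction.stabilizer G v := by
    ext x
    show (fun n : A => ((v (MulAut.conjNormal x⁻¹ n) : ℂˣ) : ℂ)) = (fun n : A => (v n : ℂ)) ↔
      v.comp (MulAut.conjNormal x⁻¹ : MulAut A).toMonoidHom = v
    rw [funext_iff, MonoidHom.ext_iff]
    exact forall_congr' fun n => ⟨fun e => Units.ext e, fun e => congrArg Units.val e⟩
  exact (h χ).squarefree_of_dvd (hst ▸ hd)

theorem mem_centralizer_of_fix (hab : ∀ a b : A, a * b = b * a) {x : G}
    (hx : letI := dualAction A; ∀ v : A →* ℂˣ, x • v = v) :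
    x ∈ Subgroup.centralizer (A : Set G) := by
  rw [← inv_mem_iff, Subgroup.mem_centralizer_iff]
  intro a ha
  have := dual_sep hab (x := (MulAut.conjNormal x⁻¹ : MulAut A) ⟨a, ha⟩) (y := ⟨a, ha⟩)
    fun v => DFunLike.congr_fun (hx v) _
  have h1 := congrArg Subtype.val this
  rw [MulAut.conjNormal_apply, inv_inv] at h1
  exact (mul_inv_eq_iff_eq_mul.mp (by rw [inv_inv]; exact h1)).symm

end dual

theorem index_prime_or_one {q n : ℕ} (hq : q.Prime) (hsf : Squarefree n) {k : ℕ}
    (hd : n ∣ q ^ k) : n = 1 ∨ n = q := by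
  obtain ⟨j, -, rfl⟩ := (Nat.dvd_prime_pow hq).mp hd
  rcases Nat.lt_or_ge j 2 with h | h
  · interval_cases j <;> simp
  · exfalso
    exact hq.not_isUnit (hsf q (dvd_trans (by rw [pow_two]) (pow_dvd_pow q h)))

/-- Squarefree degrees force `P'' = 1` in a `p`-group. -/
theorem derived_two_of_pGroup {P : Type u} [Group P] [Finite P] {q : ℕ} [Fact q.Prime]
    (hP : IsPGroup q P) (h : SF P) : derivedSeries P 2 = ⊥ := by
  obtain ⟨A, ⟨hAn, hA⟩, hmax⟩ := wellFounded_gt.has_min
    {A : Subgroup P | A.Normal ∧ ∀ a ∈ A, ∀ b ∈ A, a * b = b * a}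
    ⟨⊥, inferInstance, fun a ha b hb => by rw [Subgroup.mem_bot.mp ha, Subgroup.mem_bot.mp hb]⟩
  haveI := hAn
  have hself := PGroup.centralizer_eq_of_maximal_normal_abelian hP hA fun B hB hBab hAB => by
    by_contra hne
    exact hmax B ⟨hB, hBab⟩ (lt_of_le_of_ne hAB (Ne.symm hne))
  letI := dualAction A
  have hle : commutator P ≤ A := by
    intro x hx
    rw [← hself]
    refine mem_centralizer_of_fix A (fun a b => Subtype.ext (hA a a.2 b b.2)) fun v => ?_
    obtain ⟨k, hk⟩ := hP.exists_card_eq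
    exact commutator_le_of_index_le hP
      (index_prime_or_one (Fact.out : q.Prime) (squarefree_index A h v)
        (hk ▸ Subgroup.index_dvd_card _)) hx
  rw [derivedSeries_succ, derivedSeries_one, eq_bot_iff]
  refine (Subgroup.commutator_mono hle hle).trans (le_of_eq ?_)
  rw [Subgroup.commutator_eq_bot_iff_le_centralizer]
  exact fun a ha => Subgroup.mem_centralizer_iff.mpr fun b hb => hA b hb a ha

theorem derived_two_of_nilpotent {F : Type u} [Group F] [Finite F] [Group.IsNilpotent F]
    (h : SF F) : derivedSeries F 2 = ⊥ := by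
  obtain ⟨e⟩ := ((Group.isNilpotent_of_finite_tfae (G := F)).out 0 4 rfl rfl).mp inferInstance
  rw [eq_bot_iff]
  intro x hx
  rw [Subgroup.mem_bot]
  apply e.symm.injective
  rw [map_one]
  funext p P
  have hnorm : ∀ P : Sylow p F, (P : Subgroup F).Normal := fun P =>
    ((Group.isNilpotent_of_finite_tfae (G := F)).out 0 3 rfl rfl).mp inferInstance p ⟨Nat.prime_of_mem_primeFactors p.2⟩ P
  haveI := hnorm P
  haveI : Fact (p : ℕ).Prime := ⟨Nat.prime_of_mem_primeFactors p.2⟩
  let π : F →* (P : Subgroup F) :=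
    ((Pi.evalMonoidHom (fun P : Sylow p F => (P : Subgroup F)) P).comp
      (Pi.evalMonoidHom (fun p : {x // x ∈ (Nat.card F).primeFactors} =>
        (P : Sylow p F) → (P : Subgroup F)) p)).comp e.symm.toMonoidHom
  have h1 : π x ∈ derivedSeries (P : Subgroup F) 2 :=
    (map_derivedSeries_le_derivedSeries π 2) ⟨x, hx, rfl⟩
  rw [derived_two_of_pGroup P.2 (h.normal _), Subgroup.mem_bot] at h1
  exact h1

theorem mulAut_comm_of_cyclic {C : Type*} [Group C] [IsCyclic C] (f g : MulAut C) :
    f * g = g * f := by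
  obtain ⟨c, hc⟩ := IsCyclic.exists_generator (α := C)
  refine MulEquiv.ext fun x => ?_
  obtain ⟨k, rfl⟩ := Subgroup.mem_zpowers_iff.mp (hc x)
  obtain ⟨a, ha⟩ := Subgroup.mem_zpowers_iff.mp (hc (f c))
  obtain ⟨b, hb⟩ := Subgroup.mem_zpowers_iff.mp (hc (g c))
  simp only [MulAut.mul_apply, map_zpow, ← ha, ← hb, ← zpow_mul, mul_comm a b]

/-- If every normal subgroup of prime power order is small then `H'' = 1`. -/
theorem derived_two_of_small {H : Type*} [Group H] [Finite H] [Group.IsSolvable H]
    (hsmall : ∀ (q : ℕ) (Q : Subgroup H), q.Prime → Q.Normal → IsPGroup q Q → Nat.card Q ≤ q) :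
    derivedSeries H 2 = ⊥ := by
  set F := Cfsg.fittingSubgroup H
  haveI hFnil : Group.IsNilpotent F := inferInstance
  haveI hFn : F.Normal := Subgroup.sSup_normal _ fun _ h => h.1
  have hsq : Squarefree (Nat.card F) := by
    rw [Nat.squarefree_iff_factorization_le_one Nat.card_pos.ne']
    intro q
    by_cases hq : q.Prime
    swap
    · rw [Nat.factorization_eq_zero_of_not_prime _ hq]; exact zero_le_one
    haveI : Fact q.Prime := ⟨hq⟩
    set S : Sylow q F := default
    haveI : (S : Subgroup F).Normal :=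
      ((Group.isNilpotent_of_finite_tfae (G := F)).out 0 3 rfl rfl).mp hFnil q ⟨hq⟩ S
    haveI := Sylow.characteristic_of_normal S inferInstance
    haveI : ((S : Subgroup F).map F.subtype).Normal :=
      ConjAct.normal_of_characteristic_of_normal
    have h1 := hsmall q _ hq inferInstance (S.2.map F.subtype)
    rw [Subgroup.card_map_of_injective F.subtype_injective, S.card_eq_multiplicity] at h1
    by_contra hlt
    exact absurd h1 (not_le.mpr (lt_of_lt_of_le (by nlinarith [hq.two_le])
      (Nat.pow_le_pow_right hq.pos (show 2 ≤ _ by omega))))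
  haveI := IsZGroup.of_squarefree hsq
  haveI : IsCyclic F := inferInstance
  have hle : commutator H ≤ F := by
    refine le_trans ?_ (Solvable.centralizer_fitting_le H)
    intro x hx
    have hk : x ∈ (MulAut.conjNormal : H →* MulAut F).ker := by
      refine (Subgroup.commutator_le.2 fun a _ b _ => ?_ :
        ⁅(⊤ : Subgroup H), ⊤⁆ ≤ (MulAut.conjNormal : H →* MulAut F).ker) hx
      rw [MonoidHom.mem_ker, map_commutatorElement, commutatorElement_eq_one_iff_mul_comm]
      exact mulAut_comm_of_cyclic _ _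
    rw [Subgroup.mem_centralizer_iff]
    intro a ha
    have := congrArg Subtype.val (DFunLike.congr_fun (MonoidHom.mem_ker.mp hk) ⟨a, ha⟩)
    rw [MulAut.conjNormal_apply] at this
    exact (mul_inv_eq_iff_eq_mul.mp this).symm
  rw [derivedSeries_succ, derivedSeries_one, eq_bot_iff]
  refine (Subgroup.commutator_mono hle hle).trans (le_of_eq ?_)
  rw [Subgroup.commutator_eq_bot_iff_le_centralizer]
  exact fun a ha => Subgroup.mem_centralizer_iff.mpr fun b hb =>
    congrArg Subtype.val (mul_comm' (⟨b, hb⟩ : F) ⟨a, ha⟩)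

/-- On a minimal normal abelian subgroup the second derived subgroup acts trivially. -/
theorem derived_two_le_centralizer {G : Type u} [Group G] [Finite G] [Group.IsSolvable G]
    (h : SF G) {A : Subgroup G} [A.Normal] (hA : ∀ a ∈ A, ∀ b ∈ A, a * b = b * a)
    (hmin : ∀ M : Subgroup G, M.Normal → M ≤ A → M = ⊥ ∨ M = A) :
    derivedSeries G 2 ≤ Subgroup.centralizer (A : Set G) := by
  set C := Subgroup.centralizer (A : Set G)
  suffices hsuf : derivedSeries (G ⧸ C) 2 = ⊥ by
    rw [← QuotientGroup.ker_mk' C, ← Subgroup.map_eq_bot_iff,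
      map_derivedSeries_eq (QuotientGroup.mk'_surjective C)]
    exact hsuf
  refine derived_two_of_small fun q Q hq hQn hQ => ?_
  haveI : Fact q.Prime := ⟨hq⟩
  let f := QuotientGroup.mk' C
  let Qp := Q.comap f
  letI := dualAction A
  have hab : ∀ a b : A, a * b = b * a := fun a b => Subtype.ext (hA a a.2 b b.2)
  have hC : ∀ c ∈ C, ∀ v : A →* ℂˣ, c • v = v := by
    intro c hc v
    refine MonoidHom.ext fun a => ?_
    show v ((MulAut.conjNormal c⁻¹ : MulAut A) a) = v a
    congr 1
    apply Subtype.ext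
    rw [MulAut.conjNormal_apply, inv_inv, mul_assoc, Subgroup.mem_centralizer_iff.mp hc a a.2,
      inv_mul_cancel_left]
  have hwd : ∀ g₁ g₂ : G, f g₁ = f g₂ → ∀ v : A →* ℂˣ, g₁ • v = g₂ • v := by
    intro g₁ g₂ he v
    have hm : g₁⁻¹ * g₂ ∈ C := QuotientGroup.eq.mp he
    conv_rhs => rw [← mul_inv_cancel_left g₁ g₂, mul_smul, hC _ hm]
  by_cases hQ1 : Q = ⊥
  · rw [hQ1, Subgroup.card_bot]
    exact hq.one_lt.le
  -- the action of the quotient
  let φ : G →* MulAut (A →* ℂˣ) := MulDistribMulAction.toMulAut G (A →* ℂˣ)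
  have hker : C ≤ φ.ker := fun c hc => MulEquiv.ext fun v => hC c hc v
  let ψ := (QuotientGroup.lift C φ hker).comp Q.subtype
  letI actQ : MulDistribMulAction Q (A →* ℂˣ) :=
    { smul := fun x v => ψ x v
      one_smul := fun v => by show ψ 1 v = v; rw [map_one]; rfl
      mul_smul := fun x y v => by show ψ (x * y) v = ψ x (ψ y v); rw [map_mul]; rfl
      smul_one := fun x => map_one (ψ x)
      smul_mul := fun x v w => map_mul (ψ x) v w }
  have hact : ∀ (g : G) (hg : f g ∈ Q) (v : A →* ℂˣ), (⟨f g, hg⟩ : Q) • v = g • v :=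
    fun _ _ _ => rfl
  refine card_le_of_no_fixed (D := A →* ℂˣ) hQ ?_ ?_ ?_
  · intro v
    obtain ⟨k, hk⟩ := hQ.exists_card_eq
    refine index_prime_or_one hq ?_ (hk ▸ Subgroup.index_dvd_card _)
    have hidx : (MulAction.stabilizer Q v).index =
        (PDegree.stab (A.subgroupOf Qp)
          (fun a : A.subgroupOf Qp => ((v ⟨(a : Qp), a.2⟩ : ℂˣ) : ℂ))).index := by
      have hs : Function.Surjective (f.subgroupComap Q) :=
        MonoidHom.subgroupComap_surjective_of_surjective f Q (QuotientGroup.mk'_surjective C)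
      rw [← Subgroup.index_comap_of_surjective _ hs]
      congr 1
      ext x
      rw [Subgroup.mem_comap, MulAction.mem_stabilizer_iff]
      have e1 : (f.subgroupComap Q x) • v = (x : G) • v := hact (x : G) x.2 v
      rw [e1]
      show v.comp (MulAut.conjNormal (x : G)⁻¹ : MulAut A).toMonoidHom = v ↔
        (fun n : A.subgroupOf Qp => _) = _
      rw [MonoidHom.ext_iff, funext_iff]
      constructor
      · intro hh n
        exact congrArg Units.val (hh ⟨(n : Qp), n.2⟩)
      · intro hh a
        exact Units.ext (hh ⟨⟨(a : G), le_trans (fun c hc => Subgroup.mem_centralizer_iff.mpr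
          fun b hb => hA b hb c hc) ((QuotientGroup.ker_mk' C).ge.trans (f.ker_le_comap Q)) a.2⟩, a.2⟩)
    rw [hidx]
    haveI := Fintype.ofFinite (A.subgroupOf Qp)
    let θ : IrrCharacter (A.subgroupOf Qp) := ⟨fun a => ((v ⟨(a : Qp), a.2⟩ : ℂˣ) : ℂ),
      CharApp.DegreeOneP.linear_isIrr (A.subgroupOf Qp) ((Units.coeHom ℂ).comp (v.comp
        { toFun := fun a : A.subgroupOf Qp => (⟨(a : Qp), a.2⟩ : A)
          map_one' := rfl
          map_mul' := fun _ _ => rfl }))⟩
    haveI : Qp.Normal := Subgroup.Normal.comap hQn f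
    obtain ⟨χ, hχ⟩ := PDegree.exists_over (A.subgroupOf Qp) θ
    exact (h.normal Qp χ).squarefree_of_dvd
      ((dvd_mul_left _ _).trans (PDegree.degree_dvd_of_constituent _ χ θ hχ))
  · intro v hv
    -- the common kernel of the fixed characters
    set K : Subgroup G :=
      { carrier := {a | ∃ ha : a ∈ A, ∀ w : A →* ℂˣ, (∀ x : Q, x • w = w) → w ⟨a, ha⟩ = 1}
        one_mem' := ⟨one_mem _, fun w _ => map_one w⟩
        mul_mem' := fun ⟨ha, h1⟩ ⟨hb, h2⟩ => ⟨mul_mem ha hb, fun w hw => by
          rw [show (⟨_, mul_mem ha hb⟩ : A) = ⟨_, ha⟩ * ⟨_, hb⟩ from rfl, map_mul, h1 w hw, h2 w hw,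
            one_mul]⟩
        inv_mem' := fun ⟨ha, h1⟩ => ⟨inv_mem ha, fun w hw => by
          rw [show (⟨_, inv_mem ha⟩ : A) = (⟨_, ha⟩)⁻¹ from rfl, map_inv, h1 w hw, inv_one]⟩ } with hK
    have hKn : K.Normal := by
      refine ⟨fun a hm g => ?_⟩
      obtain ⟨ha, h1⟩ := hm
      refine ⟨(inferInstance : A.Normal).conj_mem a ha g, fun w hw => ?_⟩
      have h2 := h1 (g⁻¹ • w) fun x => by
        obtain ⟨y, hy⟩ := QuotientGroup.mk'_surjective C (x : G ⧸ C)
        have hyQ : f (g * y * g⁻¹) ∈ Q := by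
          rw [map_mul, map_mul, map_inv, hy]
          exact hQn.conj_mem _ x.2 _
        have hyQ' : f y ∈ Q := by rw [hy]; exact x.2
        have e1 : x = ⟨f y, hyQ'⟩ := Subtype.ext hy.symm
        rw [e1, hact, ← mul_smul]
        conv_rhs => rw [← hw ⟨_, hyQ⟩, hact, ← mul_smul]
        congr 1
        group
      have e2 : (g⁻¹ • w) (⟨a, ha⟩ : A) = w ⟨g * a * g⁻¹, (inferInstance : A.Normal).conj_mem a ha g⟩ := by
        show w ((MulAut.conjNormal g⁻¹⁻¹ : MulAut A) ⟨a, ha⟩) = _
        congr 1
        apply Subtype.ext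
        rw [MulAut.conjNormal_apply, inv_inv]
      exact e2.symm.trans h2
    rcases hmin K hKn (fun a hm => by obtain ⟨ha, -⟩ := hm; exact ha) with hbot | htop
    · -- then the subgroup would be trivial
      refine absurd ((Subgroup.eq_bot_iff_forall Q).mpr fun x hxQ => ?_) hQ1
      obtain ⟨y, rfl⟩ := QuotientGroup.mk'_surjective C x
      refine (QuotientGroup.eq_one_iff y).mpr ?_
      rw [← inv_mem_iff, Subgroup.mem_centralizer_iff]
      intro a ha
      have hmem : (y * a * y⁻¹) * a⁻¹ ∈ K := by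
        have hc : y * a * y⁻¹ ∈ A := (inferInstance : A.Normal).conj_mem a ha y
        refine ⟨mul_mem hc (inv_mem ha), fun w hw => ?_⟩
        have hyi : f y⁻¹ ∈ Q := by rw [map_inv]; exact inv_mem hxQ
        have e1 : w ((MulAut.conjNormal y⁻¹⁻¹ : MulAut A) ⟨a, ha⟩) = w ⟨a, ha⟩ :=
          DFunLike.congr_fun ((hact y⁻¹ hyi w).symm.trans (hw _)) ⟨a, ha⟩
        have e2 : (⟨_, mul_mem hc (inv_mem ha)⟩ : A) =
            (MulAut.conjNormal y⁻¹⁻¹ : MulAut A) ⟨a, ha⟩ * (⟨a, ha⟩ : A)⁻¹ :=
          Subtype.ext (by simp)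
        rw [inv_inv] at e1 e2
        rw [e2, map_mul, map_inv, e1, mul_inv_cancel]
      rw [hbot, Subgroup.mem_bot, mul_inv_eq_one] at hmem
      calc a * y⁻¹ = y⁻¹ * (y * a * y⁻¹) := by group
        _ = y⁻¹ * a := by rw [hmem]
    · refine MonoidHom.ext fun a => ?_
      obtain ⟨ha, h1⟩ : (a : G) ∈ K := by rw [htop]; exact a.2
      exact h1 v hv
  · intro x hx
    obtain ⟨y, hy⟩ := QuotientGroup.mk'_surjective C (x : G ⧸ C)
    have hyQ : f y ∈ Q := by rw [hy]; exact x.2
    apply Subtype.ext
    rw [OneMemClass.coe_one, ← hy]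
    refine (QuotientGroup.eq_one_iff y).mpr (mem_centralizer_of_fix A hab fun v => ?_)
    rw [← hact y hyQ, show (⟨f y, hyQ⟩ : Q) = x from Subtype.ext hy]
    exact hx v

/-- The second derived subgroup of a solvable group with squarefree degrees is nilpotent. -/
theorem nilpotent_derived_two : ∀ (n : ℕ) (G : Type u) [Group G] [Finite G] [Group.IsSolvable G],
    Nat.card G = n → SF G → Group.IsNilpotent (derivedSeries G 2) := by
  intro n
  induction n using Nat.strong_induction_on with
  | _ n ih =>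
  intro G _ _ _ hn h
  subst hn
  rcases subsingleton_or_nontrivial G with hG | hG
  · haveI : Subsingleton (derivedSeries G 2) := inferInstance
    infer_instance
  obtain ⟨p, -, A, hAn, hA0, -, hAc, -, -, hmin⟩ :=
    Solvable.exists_minimal_normal_pGroup (G := G) (N := ⊤) top_ne_bot
  haveI := hAn
  have hlt : Nat.card (G ⧸ A) < Nat.card G := by
    rw [Subgroup.card_eq_card_quotient_mul_card_subgroup A]
    exact lt_mul_of_one_lt_right Nat.card_pos ((Subgroup.one_lt_card_iff_ne_bot A).mpr hA0)
  have hnil := ih _ hlt (G ⧸ A) rfl (h.quotient A)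
  have hcent := derived_two_le_centralizer h (A := A)
    (fun a ha b hb => congrArg Subtype.val (hAc.is_comm.comm (⟨a, ha⟩ : A) ⟨b, hb⟩)) hmin
  let g : derivedSeries G 2 →* derivedSeries (G ⧸ A) 2 :=
    ((QuotientGroup.mk' A).comp (derivedSeries G 2).subtype).codRestrict _ fun x =>
      map_derivedSeries_le_derivedSeries (QuotientGroup.mk' A) 2 ⟨x, x.2, rfl⟩
  haveI := hnil
  refine isNilpotent_of_ker_le_center g ?_
  intro x hx
  have hxA : (x : G) ∈ A := (QuotientGroup.eq_one_iff _).mp (congrArg Subtype.val hx)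
  exact Subgroup.mem_center_iff.mpr fun y =>
    Subtype.ext (Subgroup.mem_centralizer_iff.mp (hcent y.2) x hxA).symm

theorem derived_four {G : Type u} [Group G] [Finite G] [Group.IsSolvable G] (h : SF G) :
    derivedSeries G 4 = ⊥ := by
  haveI : (derivedSeries G 2).Normal := derivedSeries_normal G 2
  haveI := nilpotent_derived_two _ G rfl h
  have h2 := derived_two_of_nilpotent (h.normal (derivedSeries G 2))
  have key : ∀ k m : ℕ, (derivedSeries (derivedSeries G k) m).map (derivedSeries G k).subtype =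
      derivedSeries G (k + m) := by
    intro k m
    induction m with
    | zero => rw [derivedSeries_zero, ← MonoidHom.range_eq_map, Subgroup.range_subtype]; rfl
    | succ m ih =>
      rw [derivedSeries_succ (derivedSeries G k) m, Subgroup.map_commutator, ih]
      rfl
  have h4 := (key 2 2).symm
  rw [h4, h2, Subgroup.map_bot]

end Cfsg.Agent.SquarefreeDeg
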